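import Groth.Agent.FlatSpread.Model
import Groth.Agent.FlatSpread.Main
import Mathlib.RingTheory.Flat.FaithfullyFlat.Algebra
import Mathlib.RingTheory.Spectrum.Prime.Chevalley
import Mathlib.LinearAlgebra.TensorProduct.Tower
import Mathlib.RingTheory.IsTensorProduct
import Mathlib.AlgebraicGeometry.PullbackCarrier

/-!
# Finite type descends along faithfully flat algebras of finite presentation
-/

set_option autoImplicit false
set_option linter.style.haveILetI false
universe u

open TensorProduct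

namespace Groth.Agent.DescentFT

open CategoryTheory Limits AlgebraicGeometry in
theorem exists_prime_tensor (R S T : Type u) [CommRing R] [CommRing S] [CommRing T] [Algebra R S] [Algebra R T]
    (p : PrimeSpectrum S) (q : PrimeSpectrum T)
    (h : PrimeSpectrum.comap (algebraMap R S) p = PrimeSpectrum.comap (algebraMap R T) q) :
    ∃ w : PrimeSpectrum (S ⊗[R] T), PrimeSpectrum.comap (algebraMap S (S ⊗[R] T)) w = p := by
  obtain ⟨z, hz, -⟩ := Scheme.Pullback.exists_preimage_pullback
    (f := Spec.map (CommRingCat.ofHom (algebraMap R S))) (g := Spec.map (CommRingCat.ofHom (algebraMap R T))) p q h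
  refine ⟨(pullbackSpecIso R S T).hom z, Eq.trans ?_ hz⟩
  have h1 := pullbackSpecIso_hom_fst R S T
  rw [← h1, Scheme.Hom.comp_apply]
  rfl

/-- If a faithfully flat finitely presented algebra is of finite type, so is the ring. -/
theorem finiteType_of_faithfullyFlat {R A B : Type u} [CommRing R] [CommRing A] [CommRing B] [Algebra R A]
    [Algebra A B] [Algebra R B] [IsScalarTower R A B] [Algebra.FiniteType R B]
    [Module.FaithfullyFlat A B] [Algebra.FinitePresentation A B] : Algebra.FiniteType R A := by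
  classical
  obtain ⟨R₀, _, _, B₀, _, _, _, _, _, _, hR₀, hB₀, hflat, hpush⟩ := FlatSpread.exists_model_algebra A B
  haveI := hflat
  haveI : IsNoetherianRing R₀ := Algebra.FiniteType.isNoetherianRing ℤ R₀
  haveI : Algebra.FinitePresentation R₀ B₀ := Algebra.FinitePresentation.of_finiteType.mp hB₀
  have hopen : IsOpen (Set.range (PrimeSpectrum.comap (algebraMap R₀ B₀))) :=
    (PrimeSpectrum.isOpenMap_comap_of_hasGoingDown_of_finitePresentation (R := R₀) (S := B₀)).isOpen_range
  obtain ⟨J, hJ⟩ := (PrimeSpectrum.isClosed_iff_zeroLocus_ideal _).mp hopen.isClosed_compl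
  have hJA : J.map (algebraMap R₀ A) = ⊤ := by
    by_contra hne
    obtain ⟨m, hm, hle⟩ := Ideal.exists_le_maximal _ hne
    obtain ⟨q, hq⟩ := PrimeSpectrum.comap_surjective_of_faithfullyFlat (B := B) (⟨m, hm.isPrime⟩ : PrimeSpectrum A)
    have h1 : PrimeSpectrum.comap (algebraMap R₀ A) ⟨m, hm.isPrime⟩ ∈ Set.range (PrimeSpectrum.comap (algebraMap R₀ B₀)) := by
      refine ⟨PrimeSpectrum.comap (algebraMap B₀ B) q, ?_⟩
      rw [← hq, ← PrimeSpectrum.comap_comp_apply, ← PrimeSpectrum.comap_comp_apply, ← IsScalarTower.algebraMap_eq,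
        ← IsScalarTower.algebraMap_eq]
    have h2 : PrimeSpectrum.comap (algebraMap R₀ A) ⟨m, hm.isPrime⟩ ∈ PrimeSpectrum.zeroLocus (J : Set R₀) :=
      fun x hx => hle (Ideal.mem_map_of_mem _ hx)
    rw [← hJ] at h2
    exact h2 h1
  obtain ⟨F, hF⟩ := FlatSpread.ev_ideal (C₀ := R₀) (A := A) J (a := (1 : A)) (by rw [hJA]; trivial)
  obtain ⟨gens, hgens⟩ := (‹Algebra.FiniteType R B›).out
  obtain ⟨s₀, hs₀⟩ := hR₀.out
  -- the coefficients of the generators
  have hco : ∀ b : B, ∃ (n : ℕ) (a : Fin n → A) (y : Fin n → B₀), b = ∑ i, algebraMap A B (a i) * algebraMap B₀ B (y i) := by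
    intro b
    obtain ⟨t, rfl⟩ := (Algebra.IsPushout.equiv R₀ A B₀ B).surjective b
    obtain ⟨n, a, y, rfl⟩ := TensorProduct.exists_sum_tmul_eq t
    refine ⟨n, a, y, ?_⟩
    rw [map_sum]
    exact Finset.sum_congr rfl fun i _ => Algebra.IsPushout.equiv_tmul R₀ A B₀ B (a i) (y i)
  choose n a y hb using hco
  let G : Finset A := s₀.image (algebraMap R₀ A) ∪ F ∪ gens.biUnion fun b => Finset.univ.image (a b)
  let A₁ : Subalgebra R A := Algebra.adjoin R (G : Set A)
  have hR₀A₁ : ∀ r : R₀, algebraMap R₀ A r ∈ A₁ := fun r => by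
    have h1 : r ∈ Algebra.adjoin ℤ (s₀ : Set R₀) := by rw [hs₀]; trivial
    induction h1 using Algebra.adjoin_induction with
    | mem x hx => exact Algebra.subset_adjoin (Finset.mem_coe.mpr
        (Finset.mem_union_left _ (Finset.mem_union_left _ (Finset.mem_image_of_mem _ hx))))
    | algebraMap z => rw [← IsScalarTower.algebraMap_apply ℤ R₀ A]; exact intCast_mem A₁ z
    | add x y _ _ hx hy => rw [map_add]; exact add_mem hx hy
    | mul x y _ _ hx hy => rw [map_mul]; exact mul_mem hx hy
  let D : Subalgebra R₀ A := { A₁.toSubsemiring with algebraMap_mem' := hR₀A₁ }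
  obtain ⟨one', hone, hone'⟩ := hF D fun x hx => Algebra.subset_adjoin (Finset.mem_coe.mpr
    (Finset.mem_union_left _ (Finset.mem_union_right _ hx)))
  have hJD : J.map (algebraMap R₀ D) = ⊤ := by
    rw [Ideal.eq_top_iff_one]
    rwa [show one' = 1 from Subtype.ext hone'] at hone
  haveI hff : Module.FaithfullyFlat D (D ⊗[R₀] B₀) := by
    refine Module.FaithfullyFlat.of_comap_surjective fun p => ?_
    have hp : PrimeSpectrum.comap (algebraMap R₀ D) p ∈ Set.range (PrimeSpectrum.comap (algebraMap R₀ B₀)) := by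
      by_contra hcon
      have h2 : PrimeSpectrum.comap (algebraMap R₀ D) p ∈ PrimeSpectrum.zeroLocus (J : Set R₀) := by
        rw [← hJ]; exact hcon
      exact p.isPrime.ne_top (top_le_iff.mp (hJD ▸ Ideal.map_le_iff_le_comap.mpr h2))
    obtain ⟨q, hq⟩ := hp
    exact exists_prime_tensor R₀ D B₀ p q hq.symm
  let j : D →ₗ[R₀] A := D.val.toLinearMap
  let θ : D ⊗[R₀] B₀ →ₐ[R₀] B :=
    Algebra.TensorProduct.lift ((IsScalarTower.toAlgHom R₀ A B).comp D.val) (IsScalarTower.toAlgHom R₀ B₀ B)
      fun _ _ => Commute.all _ _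
  have hθ : ∀ t, θ t = Algebra.IsPushout.equiv R₀ A B₀ B (j.rTensor B₀ t) := fun t => by
    induction t using TensorProduct.induction_on with
    | zero => simp
    | tmul d z =>
      rw [LinearMap.rTensor_tmul, Algebra.IsPushout.equiv_tmul]
      simp [θ, j]
    | add t t' ht ht' => rw [map_add, map_add, map_add, ht, ht']
  have hsurj : ∀ b : B, b ∈ θ.range := by
    intro b
    have h1 : b ∈ Algebra.adjoin R (gens : Set B) := by rw [hgens]; trivial
    induction h1 using Algebra.adjoin_induction with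
    | mem x hx =>
      rw [hb x]
      refine Subalgebra.sum_mem _ fun i _ => ⟨⟨a x i, Algebra.subset_adjoin (Finset.mem_coe.mpr
        (Finset.mem_union_right _ (Finset.mem_biUnion.mpr ⟨x, hx, Finset.mem_image_of_mem _ (Finset.mem_univ i)⟩)))⟩ ⊗ₜ y x i, ?_⟩
      simp [θ]
    | algebraMap r =>
      refine ⟨⟨algebraMap R A r, A₁.algebraMap_mem r⟩ ⊗ₜ 1, ?_⟩
      simp [θ, ← IsScalarTower.algebraMap_apply]
    | add x y _ _ hx hy => exact add_mem hx hy
    | mul x y _ _ hx hy => exact mul_mem hx hy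
  let jD : D →ₗ[D] A := Algebra.linearMap D A
  have htop : ∀ x : A, x ∈ LinearMap.range jD := by
    intro x
    obtain ⟨t, ht⟩ := hsurj (algebraMap A B x)
    rw [AlgHom.toRingHom_eq_coe, RingHom.coe_coe, hθ] at ht
    have h1 : j.rTensor B₀ t = x ⊗ₜ[R₀] (1 : B₀) := by
      apply (Algebra.IsPushout.equiv R₀ A B₀ B).injective
      rw [ht, Algebra.IsPushout.equiv_tmul, map_one, mul_one]
    let q : A →ₗ[D] A ⧸ LinearMap.range jD := (LinearMap.range jD).mkQ
    have h2 : (q.restrictScalars R₀).rTensor B₀ (x ⊗ₜ[R₀] (1 : B₀)) = 0 := by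
      rw [← h1]
      clear h1 ht
      induction t using TensorProduct.induction_on with
      | zero => simp
      | tmul d z =>
        rw [LinearMap.rTensor_tmul, LinearMap.rTensor_tmul,
          show (q.restrictScalars R₀) (j d) = 0 from (Submodule.Quotient.mk_eq_zero _).mpr ⟨d, rfl⟩, zero_tmul]
      | add t t' _ _ => simp [*]
    have h3 : (q x) ⊗ₜ[D] (1 : D ⊗[R₀] B₀) = 0 := by
      apply (TensorProduct.AlgebraTensorModule.cancelBaseChange R₀ D D (A ⧸ LinearMap.range jD) B₀).injective
      rw [map_zero, Algebra.TensorProduct.one_def, TensorProduct.AlgebraTensorModule.cancelBaseChange_tmul, one_smul]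
      simpa using h2
    have h4 : q x = 0 := (Module.FaithfullyFlat.one_tmul_eq_zero_iff D _ (A := D ⊗[R₀] B₀) (q x)).mp (by
      rw [← TensorProduct.comm_tmul D (A ⧸ LinearMap.range jD) (D ⊗[R₀] B₀), h3, map_zero])
    exact (Submodule.Quotient.mk_eq_zero _).mp h4
  refine ⟨⟨G, eq_top_iff.mpr fun x _ => ?_⟩⟩
  obtain ⟨d, rfl⟩ := htop x
  exact d.2

end Groth.Agent.DescentFT
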